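-- Team project OELL (S5993), package [PCRITE] (helper53).
import Cfsg.Agent.Lib.Helper55.OEll.Defs

set_option autoImplicit false
open Matrix

namespace Cfsg.Agent.Lib.Helper53.OEll

open Cfsg.Agent.Lib.Helper23.OHyp Cfsg.Agent.Lib.Helper55.OEll

universe u

section
variable {F : Type u} [Field F] {ι : Type} [Fintype ι] [DecidableEq ι]

omit [DecidableEq ι] in
/-- If `A ≤ M ⊔ span {t}` then `dim A ≤ dim (A ⊓ M) + 1`. -/
theorem finrank_le_inf_add_one (A M : Submodule F (ι → F)) (t : ι → F)
    (h : A ≤ M ⊔ Submodule.span F {t}) :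
    Module.finrank F A ≤ Module.finrank F ↥(A ⊓ M) + 1 := by
  have h1 := Submodule.finrank_sup_add_finrank_inf_eq A M
  have h2 : Module.finrank F ↥(A ⊔ M) ≤ Module.finrank F ↥(M ⊔ Submodule.span F {t}) :=
    Submodule.finrank_mono (sup_le h le_sup_left)
  have h3 := Submodule.finrank_add_le_finrank_add_finrank M (Submodule.span F {t})
  have h4 : Module.finrank F ↥(Submodule.span F {t}) ≤ 1 := by
    by_cases ht : t = 0
    · subst ht
      rw [Submodule.span_zero_singleton, finrank_bot]
      exact Nat.zero_le 1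
    · exact (finrank_span_singleton ht).le
  omega

/-- The polar form of `Q` as a Mathlib bilinear form. -/
noncomputable def polarBil (Q : (ι → F) → F) (hQ : Cfsg.Geo.IsNondegenerateQuadraticForm Q) :
    LinearMap.BilinForm F (ι → F) :=
  LinearMap.mk₂ F (QuadraticMap.polar Q) hQ.polar_bilinear.add_left
    (fun c m n => hQ.polar_bilinear.smul_left c m n) hQ.polar_bilinear.add_right
    (fun c m n => hQ.polar_bilinear.smul_right c m n)

omit [Fintype ι] [DecidableEq ι] in
theorem polarBil_apply (Q : (ι → F) → F) (hQ : Cfsg.Geo.IsNondegenerateQuadraticForm Q)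
    (u v : ι → F) : polarBil Q hQ u v = QuadraticMap.polar Q u v := rfl

end

theorem pkgPCritE : PkgPCritE.{u} := by
  intro F _ ι _ _ Q hQ h2 x hx hN ⟨t, ht⟩ W hW hNd hEven
  classical
  set Bv := polarBil Q hQ with hBv
  have hBvapp : ∀ u v, Bv u v = QuadraticMap.polar Q u v := fun u v => rfl
  have hBx : ∀ u v, Bv (x *ᵥ u) (x *ᵥ v) = Bv u v := by
    intro u v
    simp only [hBvapp, QuadraticMap.polar]
    rw [← Matrix.mulVec_add, hx, hx, hx]
  have hcomm : ∀ u v, Bv u v = Bv v u := by
    intro u v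
    simp only [hBvapp]
    exact QuadraticMap.polar_comm Q u v
  -- N = x - 1
  set N : (ι → F) →ₗ[F] (ι → F) := Matrix.toLin' x - 1 with hNdef
  have hNapp : ∀ v, N v = x *ᵥ v - v := by
    intro v
    simp [hNdef]
  have hNN : ∀ v, N (N v) = 0 := by
    intro v
    have h1 : ((x - 1) * (x - 1)) *ᵥ v = 0 := by rw [hN]; simp
    rw [← Matrix.mulVec_mulVec] at h1
    have h3 : ∀ w : ι → F, (x - 1) *ᵥ w = N w := by
      intro w
      rw [hNapp, Matrix.sub_mulVec, Matrix.one_mulVec]
    rw [h3, h3] at h1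
    exact h1
  -- key identity
  have hkey : ∀ u v, Bv (N u) (x *ᵥ v) = - Bv u (N v) := by
    intro u v
    rw [hNapp, hNapp, map_sub, LinearMap.sub_apply, hBx, map_sub]
    ring
  have hfm : ∀ y k, N k = 0 → Bv k (N y) = 0 := by
    intro y k hk
    have hxk : x *ᵥ k = k := by
      have := hNapp k
      rw [hk] at this
      exact (sub_eq_zero.mp this.symm)
    rw [hcomm]
    have := hkey y k
    rw [hxk, hk, map_zero, neg_zero] at this
    exact this
  -- restriction to W
  have hNW : ∀ w ∈ W, N w ∈ W := by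
    intro w hw
    rw [hNapp]
    refine W.sub_mem (hW ?_) hw
    exact ⟨w, hw, by simp [Matrix.toLin'_apply]⟩
  set n : W →ₗ[F] W := N.restrict hNW with hn
  have hnapp : ∀ w : W, ((n w : W) : ι → F) = N (w : ι → F) := fun w => rfl
  set Bw : LinearMap.BilinForm F W := Bv.restrict W with hBw
  have hBwapp : ∀ a b : W, Bw a b = Bv (a : ι → F) (b : ι → F) := fun a b => rfl
  have hBwnd : Bw.Nondegenerate := by
    constructor
    · intro w hw
      by_contra hne
      have hne' : (w : ι → F) ≠ 0 := fun h => hne (Subtype.ext h)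
      obtain ⟨y, hyW, hy⟩ := (hNd (w : ι → F) w.2 hne').2
      exact hy (hw ⟨y, hyW⟩)
    · intro w hw
      by_contra hne
      have hne' : (w : ι → F) ≠ 0 := fun h => hne (Subtype.ext h)
      obtain ⟨y, hyW, hy⟩ := (hNd (w : ι → F) w.2 hne').1
      exact hy (hw ⟨y, hyW⟩)
  set K' : Submodule F W := LinearMap.ker n with hK'
  set I' : Submodule F W := LinearMap.range n with hI'
  have hrn : Module.finrank F I' + Module.finrank F K' = Module.finrank F W :=
    LinearMap.finrank_range_add_finrank_ker n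
  have hkerN : ∀ k : W, k ∈ K' → N (k : ι → F) = 0 := by
    intro k hk
    have : n k = 0 := hk
    rw [← hnapp, this]
    rfl
  have hIK : I' ≤ K' := by
    rintro _ ⟨w, rfl⟩
    show n (n w) = 0
    apply Subtype.ext
    rw [hnapp, hnapp]
    exact hNN _
  have hIorth : I' ≤ Bw.orthogonal K' := by
    rintro _ ⟨w, rfl⟩
    rw [LinearMap.BilinForm.mem_orthogonal_iff]
    intro k hk
    show Bw k (n w) = 0
    rw [hBwapp, hnapp]
    exact hfm _ _ (hkerN k hk)
  have horth : Module.finrank F (Bw.orthogonal K') = Module.finrank F W - Module.finrank F K' :=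
    LinearMap.BilinForm.finrank_orthogonal hBwnd K'
  have hIeq : I' = Bw.orthogonal K' :=
    Submodule.eq_of_le_of_finrank_le hIorth (by omega)
  set J' : Submodule F W := K' ⊓ (movSp x).comap W.subtype with hJ'
  have hJI : J' ≤ I' := by
    rw [hIeq]
    rintro m ⟨hmK, hmM⟩
    rw [LinearMap.BilinForm.mem_orthogonal_iff]
    intro k hk
    have hmM' : (m : ι → F) ∈ movSp x := hmM
    obtain ⟨y, hy⟩ := hmM'
    show Bw k m = 0
    rw [hBwapp, ← hy]
    exact hfm _ _ (hkerN k hk)
  have hKJ : Module.finrank F K' ≤ Module.finrank F J' + 1 := by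
    have hKV : K'.map W.subtype ≤ movSp x ⊔ Submodule.span F {t} := by
      refine le_trans ?_ ht
      rintro _ ⟨k, hk, rfl⟩
      exact hkerN k hk
    have h1 := finrank_le_inf_add_one (K'.map W.subtype) (movSp x) t hKV
    rw [Submodule.finrank_map_subtype_eq] at h1
    have h2 : K'.map W.subtype ⊓ movSp x ≤ J'.map W.subtype := by
      rintro _ ⟨⟨k, hk, rfl⟩, hm⟩
      exact ⟨k, ⟨hk, hm⟩, rfl⟩
    have h3 := Submodule.finrank_mono h2
    rw [Submodule.finrank_map_subtype_eq] at h3
    omega
  have hIKf : Module.finrank F I' ≤ Module.finrank F K' := Submodule.finrank_mono hIK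
  have hJIf : Module.finrank F J' ≤ Module.finrank F I' := Submodule.finrank_mono hJI
  refine ⟨I'.map W.subtype, Submodule.map_subtype_le W I', ?_, ?_⟩
  · rintro _ ⟨m, hm, rfl⟩
    obtain ⟨w, rfl⟩ := hm
    have h0 : Bv (N (w : ι → F)) (N (w : ι → F)) = 0 := hfm _ _ (hNN _)
    show Q ((n w : W) : ι → F) = 0
    rw [hnapp]
    rw [hBvapp, QuadraticMap.polar] at h0
    have h4 : N (w : ι → F) + N (w : ι → F) = (2 : F) • N (w : ι → F) := (two_smul F _).symm
    rw [h4, hQ.smul] at h0
    have h5 : (2 : F) * Q (N (w : ι → F)) = 0 := by linear_combination h0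
    rcases mul_eq_zero.mp h5 with h | h
    · exact absurd h h2
    · exact h
  · rw [Submodule.finrank_map_subtype_eq]
    obtain ⟨c, hc⟩ := hEven
    omega

end Cfsg.Agent.Lib.Helper53.OEll
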